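import Groth.Agent.CohqA.FBCMain
import Groth.Agent.CohqA.AffineBaseChange
import Groth.Agent.S0485

/-!
# Flat base change in degree zero, canonical form

`isUniv_pushSquare_flat`: for a cartesian square with `f` quasi-compact quasi-separated and `g` flat, and
`a : M ⟶ g'_* N` exhibiting `N` as the pullback of the quasi-coherent `M`, the morphism
`f_* M ⟶ g_* f'_* N` exhibits `f'_* N` as the pullback of `f_* M`.
`isIso_bc0_flat`: the canonical morphism `CohBC.bc0` is an isomorphism.
-/

set_option autoImplicit false
universe u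

open CategoryTheory CategoryTheory.Limits AlgebraicGeometry Opposite TopologicalSpace
open AlgebraicGeometry.Scheme.Modules

namespace Groth.Agent.Coherent.K791.FBC0

open Groth.Agent Groth.Agent.CohqA Groth.Agent.CohqA.FBCRes Groth.Agent.CohqA.FBCAbs
  Groth.Agent.CohqA.FBCHom Groth.Agent.CohqA.FBCMain Groth.Agent.CohqA.PullbackUniv
  Groth.Agent.CohqA.AffineBaseChange

section Zero

variable {X S : Scheme.{u}} (f : X ⟶ S) {M : X.Modules} (J : InjectiveResolution M)

/-- `f_* M ⟶ Z^0(f_* J)` -/
noncomputable def zc : (pushforward f).obj M ⟶ (push f J.cocomplex).cycles 0 :=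
  (push f J.cocomplex).liftCycles ((pushforward f).map (aug J)) 1 (by simp)
    (map_aug_d (pushforward f) J)

theorem zc_i : zc f J ≫ (push f J.cocomplex).iCycles 0 = (pushforward f).map (aug J) :=
  HomologicalComplex.liftCycles_i _ _ _ _ _

instance isIso_zc : IsIso (zc f J) := by
  have h1 := isLimitMapAug (pushforward f) J
  have h2 := (push f J.cocomplex).cyclesIsKernel 0 1 (by simp)
  have h3 : zc f J = (IsLimit.conePointUniqueUpToIso h1 h2).hom := by
    rw [← cancel_mono ((push f J.cocomplex).iCycles 0), zc_i]
    exact (IsLimit.conePointUniqueUpToIso_hom_comp h1 h2 WalkingParallelPair.zero).symm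
  rw [h3]
  infer_instance

/-- `f_* M ⟶ H^0(f_* J)` -/
noncomputable def zh : (pushforward f).obj M ⟶ (push f J.cocomplex).homology 0 :=
  zc f J ≫ (push f J.cocomplex).homologyπ 0

instance isIso_zh : IsIso (zh f J) := by
  have : IsIso ((push f J.cocomplex).homologyπ 0) :=
    (push f J.cocomplex).isIso_homologyπ 0 0 (by simp) (by
      refine HomologicalComplex.shape _ _ _ ?_
      simp)
  exact IsIso.comp_isIso

end Zero

variable {X S X' S' : Scheme.{u}} {f : X ⟶ S} {g : S' ⟶ S} {g' : X' ⟶ X} {f' : X' ⟶ S'}

theorem zc_zeta (w : g' ≫ f = f' ≫ g) {M : X.Modules} {N : X'.Modules}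
    (a : M ⟶ (pushforward g').obj N) (J : InjectiveResolution M) (I : InjectiveResolution N)
    (θ : J.cocomplex ⟶
      ((pushforward g').mapHomologicalComplex (ComplexShape.up ℕ)).obj I.cocomplex)
    (hθ : aug J ≫ θ.f 0 = a ≫ (pushforward g').map (aug I)) :
    zc f J ≫ zeta 0 (pushCx (f := f) (g := g) (f' := f') w θ) =
      pushSquare f g g' f' w a ≫ (pushforward g).map (zc f' I) := by
  have hm : Mono ((pushforward g).map ((push f' I.cocomplex).iCycles 0)) := inferInstance
  have h1 : (pushCx (f := f) (g := g) (f' := f') w θ).f 0 =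
      (pushforward f).map (θ.f 0) ≫ (squareIso w).hom.app (I.cocomplex.X 0) := rfl
  have h2 : pushSquare f g g' f' w a =
      (pushforward f).map a ≫ (squareIso w).hom.app N := rfl
  have h3 := (squareIso w).hom.naturality (aug I)
  refine (cancel_mono ((pushforward g).map ((push f' I.cocomplex).iCycles 0))).1 ?_
  have e1 : (zc f J ≫ zeta 0 (pushCx (f := f) (g := g) (f' := f') w θ)) ≫
      (pushforward g).map ((push f' I.cocomplex).iCycles 0) =
      (pushforward f).map (aug J) ≫ (pushforward f).map (θ.f 0) ≫
        (squareIso w).hom.app (I.cocomplex.X 0) := by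
    refine (Category.assoc _ _ _).trans ?_
    refine (congrArg (fun t => zc f J ≫ t) (zeta_i 0 (pushCx (f := f) (g := g) (f' := f') w θ))).trans ?_
    refine (Category.assoc _ _ _).symm.trans ?_
    exact congrArg₂ (fun s t => s ≫ t) (zc_i f J) h1
  have e2 : (pushSquare f g g' f' w a ≫ (pushforward g).map (zc f' I)) ≫
      (pushforward g).map ((push f' I.cocomplex).iCycles 0) =
      pushSquare f g g' f' w a ≫ (pushforward g).map ((pushforward f').map (aug I)) := by
    rw [Category.assoc, ← Functor.map_comp, zc_i]
    rfl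
  refine e1.trans (Eq.trans ?_ e2.symm)
  rw [h2]
  refine (Category.assoc _ _ _).symm.trans ?_
  refine Eq.trans ?_ (Category.assoc _ _ _).symm
  refine Eq.trans ?_ (congrArg (fun t => (pushforward f).map a ≫ t) h3)
  refine Eq.trans ?_ (Category.assoc _ _ _)
  refine congrArg (fun t => t ≫ (squareIso w).hom.app (I.cocomplex.X 0)) ?_
  exact ((pushforward f).map_comp _ _).symm.trans
    ((congrArg (pushforward f).map hθ).trans ((pushforward f).map_comp _ _))

theorem zh_eta (w : g' ≫ f = f' ≫ g) {M : X.Modules} {N : X'.Modules}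
    (a : M ⟶ (pushforward g').obj N) (J : InjectiveResolution M) (I : InjectiveResolution N)
    (θ : J.cocomplex ⟶
      ((pushforward g').mapHomologicalComplex (ComplexShape.up ℕ)).obj I.cocomplex)
    (hθ : aug J ≫ θ.f 0 = a ≫ (pushforward g').map (aug I)) :
    zh f J ≫ eta 0 (pushCx (f := f) (g := g) (f' := f') w θ) =
      pushSquare f g g' f' w a ≫ (pushforward g).map (zh f' I) := by
  rw [zh, Category.assoc, π_eta, ← Category.assoc, zc_zeta w a J I θ hθ, Category.assoc,
    ← Functor.map_comp]
  rfl

/-- **Flat base change in degree zero.** -/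
theorem isUniv_pushSquare_flat (H : IsPullback g' f' f g) [QuasiCompact f] [QuasiSeparated f]
    [Flat g] {M : X.Modules} (hM : Coh.IsQCoh M) {N : X'.Modules}
    (a : M ⟶ (pushforward g').obj N) (ha : IsUniv g' a) :
    IsUniv g (pushSquare f g g' f' H.w a) := by
  have hX : EnoughInjectives X.Modules := S0485.result _ X.ringCatSheaf
  have hX' : EnoughInjectives X'.Modules := S0485.result _ X'.ringCatSheaf
  have hX1 : HasInjectiveResolutions X.Modules := inferInstance
  have hX1' : HasInjectiveResolutions X'.Modules := inferInstance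
  have hg' : Flat g' := MorphismProperty.of_isPullback H.flip ‹_›
  obtain ⟨J⟩ := (HasInjectiveResolutions.out M).out
  obtain ⟨I⟩ := (HasInjectiveResolutions.out N).out
  obtain ⟨θ, hθ⟩ := InjLift.exists_lift (Scheme.Modules.pushforward g')
    (fun Q hQ => InjLift.injective_pushforward g' Q hQ) J I a
  have h1 := isUniv_eta H hM a ha J I θ hθ 0
  have h2 := h1.iso_comp (zh f J)
  rw [zh_eta H.w a J I θ hθ] at h2
  have h3 := h2.comp_iso (asIso (zh f' I)).symm
  have h4 : (pushSquare f g g' f' H.w a ≫ (pushforward g).map (zh f' I)) ≫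
      (pushforward g).map (asIso (zh f' I)).symm.hom = pushSquare f g g' f' H.w a := by
    rw [Category.assoc, ← Functor.map_comp]
    simp
  rwa [h4] at h3

/-- **Flat base change in degree zero**: the canonical morphism is an isomorphism. -/
theorem isIso_bc0_flat (H : IsPullback g' f' f g) [QuasiCompact f] [QuasiSeparated f]
    [Flat g] {M : X.Modules} (hM : Coh.IsQCoh M) :
    IsIso (((pullbackPushforwardAdjunction g).homEquiv ((pushforward f).obj M)
      ((pushforward f').obj ((Scheme.Modules.pullback g').obj M))).symm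
        (pushSquare f g g' f' H.w (PullbackSections.pbUnit g' M))) :=
  (isUniv_iff_isIso _ _).1 (isUniv_pushSquare_flat H hM _ (PullbackSections.isUniv_pbUnit g' M))

end Groth.Agent.Coherent.K791.FBC0
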