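import Groth.Agent.VarietyB.FlatH0
import Groth.Agent.VarietyB.GGStalk
import Groth.Agent.CohqB.LocalQC
import Groth.Agent.VarietyA.GlobGen

/-!
# Global generation near a fibre of a closed map

* `gg_pullback_of_span`: the pullback of `M` is globally generated if the germs of the global
  sections of `M` span at the image points.
* `isClosed_notSpan`: the locus where the germs of global sections do not span is closed.
* `span_of_flat_bc`: flat base change.
-/

set_option autoImplicit false
universe u

open CategoryTheory CategoryTheory.Limits AlgebraicGeometry TopologicalSpace Opposite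

namespace Groth.Agent.Coherent.K791.GGNbhd

open Groth.Agent Groth.Agent.VarietyB.GGStalk Groth.Agent.VarietyB.PullSec
  Groth.Agent.VarietyB.FlatH0 Groth.Agent.Fdesc.PullbackStalk Groth.Agent.CycB.StalkExact
  Groth.Agent.VarietyB.BCAlg

variable {X Y : Scheme.{u}}

/-- The germs of the global sections span the stalk at `x`. -/
def SpanAt (M : X.Modules) (x : X) : Prop :=
  Submodule.span (X.presheaf.stalk x) (Set.range fun s : Γ(M, ⊤) => M.presheaf.germ ⊤ x trivial s) = ⊤

theorem gg_pullback_of_span (g : Y ⟶ X) (M : X.Modules) (hM : ∀ y : Y, SpanAt M (g.base y)) :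
    Curv2.IsGloballyGenerated ((Scheme.Modules.pullback g).obj M) := by
  rw [isGloballyGenerated_iff_span]
  intro y
  rw [eq_top_iff, ← span_canAdd g M y _ (hM y)]
  refine Submodule.span_mono ?_
  rintro _ ⟨_, ⟨s, rfl⟩, rfl⟩
  exact ⟨_, (canAdd_germ g M y ⊤ trivial s).symm⟩

theorem surjective_of_notMem_support {M N : X.Modules} (φ : M ⟶ N) (x : X)
    (h : x ∉ CohB1.support (cokernel φ)) : Function.Surjective (stalkLin φ x) := by
  have hex : (ShortComplex.mk φ (cokernel.π φ) (cokernel.condition φ)).Exact :=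
    ShortComplex.exact_of_g_is_cokernel _ (cokernelIsCokernel φ)
  have h1 := stalkLin_exact _ hex x
  have h2 : Subsingleton ((cokernel φ).presheaf.stalk x) := not_not.mp h
  intro n
  exact (h1 n).mp (Subsingleton.elim _ _)

theorem notMem_support_of_surjective {M N : X.Modules} (φ : M ⟶ N) (x : X)
    (h : Function.Surjective (stalkLin φ x)) : x ∉ CohB1.support (cokernel φ) := by
  have hex : (ShortComplex.mk φ (cokernel.π φ) (cokernel.condition φ)).Exact :=
    ShortComplex.exact_of_g_is_cokernel _ (cokernelIsCokernel φ)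
  have h1 := stalkLin_exact _ hex x
  have h2 : Function.Surjective (stalkLin (cokernel.π φ) x) := stalkLin_surjective _ x
  have h3 : Subsingleton ((cokernel φ).presheaf.stalk x) := by
    refine ⟨fun a b => ?_⟩
    obtain ⟨a', rfl⟩ := h2 a
    obtain ⟨b', rfl⟩ := h2 b
    exact ((h1 a').mpr (h a')).trans ((h1 b').mpr (h b')).symm
  exact not_not.mpr h3

theorem isClosed_notSpan (M : X.Modules) (hM : CohB1.IsFT M) : IsClosed {x : X | ¬ SpanAt M x} := by
  have h : {x : X | ¬ SpanAt M x} = CohB1.support (cokernel (ofSec (fun s : Γ(M, ⊤) => s))) := by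
    ext x
    have h1 : SpanAt M x ↔ x ∉ CohB1.support (cokernel (ofSec (fun s : Γ(M, ⊤) => s))) := by
      have h2 : SpanAt M x ↔ Function.Surjective (stalkLin (ofSec (fun s : Γ(M, ⊤) => s)) x) := by
        rw [← LinearMap.range_eq_top, range_stalkLin_ofSec]
        rfl
      rw [h2]
      exact ⟨notMem_support_of_surjective _ x, surjective_of_notMem_support _ x⟩
    rw [Set.mem_setOf_eq, h1, not_not]
  rw [h]
  exact VarietyA.GlobGen.isClosed_support _ (CohqB.LocalQC.isFT_of_epi (cokernel.π _) hM)

/-- Flat base change for spanning. -/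
theorem span_of_flat_bc {S T : Scheme.{u}} {f : T ⟶ S} {g : Y ⟶ X} {iX : X ⟶ S} {iY : Y ⟶ T}
    (H : IsPullback g iY iX f) [Flat f] [IsAffine S] [IsAffine T]
    [CompactSpace X] [QuasiSeparatedSpace X] (F : X.Modules) (hF : Coh.IsQCoh F)
    (h : Curv2.IsGloballyGenerated ((Scheme.Modules.pullback g).obj F)) (y : Y) :
    SpanAt F (g.base y) := by
  have hg : Flat g := MorphismProperty.of_isPullback (P := @Flat) H.flip inferInstance
  rw [isGloballyGenerated_iff_span] at h
  apply span_of_span_canAdd g F y
  rw [eq_top_iff, ← h y, Submodule.span_le]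
  rintro _ ⟨t, rfl⟩
  have hbc := (isBC_top H F hF).span_eq_top
  let i4 : Module Γ(T, ⊤) Γ((Scheme.Modules.pullback g).obj F, ⊤) :=
    modOver iY ((Scheme.Modules.pullback g).obj F) le_top
  have ht : t ∈ Submodule.span Γ(T, ⊤) (Set.range (sec g F (U := ⊤) (V := ⊤) le_top)) := by
    rw [hbc]
    exact Submodule.mem_top
  refine Submodule.span_induction (p := fun t _ =>
    ((Scheme.Modules.pullback g).obj F).presheaf.germ ⊤ y trivial t ∈
      Submodule.span (Y.presheaf.stalk y) (canAdd g F y '' Set.range fun s : Γ(F, ⊤) =>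
        F.presheaf.germ ⊤ (g.base y) trivial s)) ?_ ?_ ?_ ?_ ht
  · rintro _ ⟨s, rfl⟩
    rw [germ_sec]
    exact Submodule.subset_span ⟨_, ⟨s, rfl⟩, rfl⟩
  · rw [map_zero]
    exact Submodule.zero_mem _
  · intro a b _ _ ha hb
    rw [map_add]
    exact Submodule.add_mem _ ha hb
  · intro r a _ ha
    have key : ((Scheme.Modules.pullback g).obj F).presheaf.germ ⊤ y trivial
        ((iY.appLE ⊤ ⊤ le_top r : Γ(Y, ⊤)) • a) =
        Y.presheaf.germ ⊤ y trivial (iY.appLE ⊤ ⊤ le_top r) •
          ((Scheme.Modules.pullback g).obj F).presheaf.germ ⊤ y trivial a :=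
      Groth.Agent.CycB.StalkExact.germ_smul (U := ⊤) y trivial _ _
    have := Submodule.smul_mem _ (Y.presheaf.germ ⊤ y trivial (iY.appLE ⊤ ⊤ le_top r)) ha
    rw [← key] at this
    exact this

end Groth.Agent.Coherent.K791.GGNbhd
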