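import Groth.Agent.Coherent.K791.TensCech
import Groth.Agent.Sga67.TwistProj
import Groth.Agent.Sga67.PushFlat
import Groth.Agent.S0844
import Groth.Agent.S0845
import Groth.Agent.Fga.QA4BC
import Groth.Agent.Ega3B.ChiFib
import Groth.Agent.Ega3B.MasterAsm
import Groth.Agent.S2310
import Groth.Agent.Ega3A.PChart
import Groth.Agent.Krr.H471.ChartVan
import Groth.Agent.CohqB.QC7
import Groth.Agent.CohqA.DirectSum

/-!
# `H^q(P^r_A, g^* G ⊗ O(j)) = 0` for `q ≠ r` and `j ≤ -1`, `G` quasi-coherent on `Spec A`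
-/

set_option autoImplicit false
universe u
open CategoryTheory CategoryTheory.Limits AlgebraicGeometry Opposite TopologicalSpace TensorProduct

namespace Groth.Agent.Coherent.K791.PnTens

open Groth.Agent Groth.Agent.Sga67

variable (r : ℕ) (A : Type u) [CommRing A]

/-- The cohomology of `O(j)`, `j ≤ -1`, is flat. -/
theorem flat_HH (j : ℤ) (hj : j ≤ -1) (p : ℕ) :
    Module.Flat A (Coh.HH (CohB1.ProjSpace r A) (Twist.twistProjSpace r A j) p) := by
  by_cases h : p = r ∧ j ≤ -((r : ℤ) + 1)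
  · obtain ⟨rfl, h2⟩ := h
    obtain ⟨k, hk⟩ : ∃ k : ℕ, j = -((p : ℤ) + 1 + k) := ⟨(-j - (p + 1)).toNat, by omega⟩
    subst hk
    obtain ⟨e⟩ := S0845.result A p k
    have h3 : Module.Free A (MvPolynomial.homogeneousSubmodule (Fin (p + 1)) A k) := by
      have := Groth.Agent.Fga.QA4BC.free_homogeneousSubmodule (A := A) (σ := Fin (p + 1)) k
      exact this
    exact Module.Flat.of_linearEquiv e
  · have := S0844.result A r j p (by omega) (by omega)
    exact Module.Flat.of_linearEquiv (0 : Coh.HH (CohB1.ProjSpace r A) (Twist.twistProjSpace r A j) p ≃ₗ[A] PUnit.{u+1})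

/-- `H^q(P^r_A, O(j) ⊗_A M) = 0` for `q ≠ r`, `j ≤ -1`. -/
theorem subsingleton_tensorA (j : ℤ) (hj : j ≤ -1) (q : ℕ) (hq : q ≠ r) (M : ModuleCat.{u} A) :
    Subsingleton (Coh.HH (CohB1.ProjSpace r A)
      ((CohIII.tensorAFunctor A (Twist.twistProjSpace r A j)).obj M) q) := by
  have hfl : Flat (CohB1.ProjSpace r A ↘ Spec (CommRingCat.of A)) := PushFlat.flat_toSpec r A
  have hpr : IsProper (CohB1.ProjSpace r A ↘ Spec (CommRingCat.of A)) :=
    Ega3B.ProjProper.isProper_toSpec r A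
  have hF : Coh.IsQCoh (Twist.twistProjSpace r A j) :=
    Ega2.QCohLocal.isQCoh_of_isInvertible (Ega3B.ProjFrame.isInvertible_twistProjSpace r A j)
  obtain ⟨e⟩ := TensCech.nonempty_equiv A (Twist.twistProjSpace r A j) hF
    (Ega3B.ChiFib.isFlatOver_of_isInvertible _ (Ega3B.ProjFrame.isInvertible_twistProjSpace r A j))
    (flat_HH r A j hj) M (Ega3B.MasterAsm.isQCoh_tensorAFunctor _ hF M) q
  have := S0844.result A r j q (by omega) (by omega)
  have h2 : Subsingleton (M ⊗[A] Coh.HH (CohB1.ProjSpace r A) (Twist.twistProjSpace r A j) q) :=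
    inferInstance
  exact e.toEquiv.subsingleton

/-- `H^q(P^r_A, g^* G ⊗ O(j)) = 0` for `q ≠ r`, `j ≤ -1`, `G` quasi-coherent. -/
theorem hh_pullback_neg {G : (Spec (CommRingCat.of A)).Modules} (hG : Coh.IsQCoh G) (j : ℤ)
    (hj : j ≤ -1) (q : ℕ) (hq : q ≠ r) :
    Subsingleton (Coh.HH (CohB1.ProjSpace r A)
      (CohB1.tensorMod ((Scheme.Modules.pullback (CohB1.ProjSpace.toSpec r A)).obj G)
        (Twist.twistProjSpace r A j)) q) := by
  obtain ⟨M, ⟨e⟩⟩ := S2310.exists_tilde_iso G hG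
  have h1 := subsingleton_tensorA r A j hj q hq M
  have e1 : CohB1.tensorMod ((Scheme.Modules.pullback (CohB1.ProjSpace.toSpec r A)).obj G)
        (Twist.twistProjSpace r A j) ≅
      (CohIII.tensorAFunctor A (Twist.twistProjSpace r A j)).obj M :=
    Ega2.Tens.mapTIso ((Scheme.Modules.pullback (CohB1.ProjSpace.toSpec r A)).mapIso e) (Iso.refl _)
  exact Fga.HShift.subsingleton_of_iso e1.symm q h1

section Over

open Ega3A.PChart

variable {A} {Y : Scheme.{u}} (h : Spec (CommRingCat.of A) ⟶ Y) [IsOpenImmersion h]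

/-- The restriction of `f^* G ⊗ O(j)` to a chart. -/
noncomputable def resIso (G : Y.Modules) (j : ℤ) :
    (CohB1.tensorMod ((Scheme.Modules.pullback (CohB1.ProjSpaceOver.toBase r Y)).obj G)
      (Twist.twistOver r Y j)).restrict (chart r h) ≅
      CohB1.tensorMod ((Scheme.Modules.pullback (CohB1.ProjSpace.toSpec r A)).obj
        ((Scheme.Modules.pullback h).obj G)) (Twist.twistProjSpace r A j) :=
  (PerfC.TensRestr.resIso (chart r h) _ _).symm ≪≫
    Ega2.Tens.mapTIso ((Scheme.Modules.restrictFunctorIsoPullback (chart r h)).app _ ≪≫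
        (Scheme.Modules.pullbackComp (chart r h) (CohB1.ProjSpaceOver.toBase r Y)).app G ≪≫
        (Scheme.Modules.pullbackCongr (isPullback_chart r h).w).app G ≪≫
        ((Scheme.Modules.pullbackComp (CohB1.ProjSpace.toSpec r A) h).app G).symm)
      (restrictTwistIso r h j)

theorem isQCoh_term (G : Y.Modules) (hG : Coh.IsQCoh G) (j : ℤ) :
    Coh.IsQCoh (CohB1.tensorMod ((Scheme.Modules.pullback (CohB1.ProjSpaceOver.toBase r Y)).obj G)
      (Twist.twistOver r Y j)) := by
  have h1 : Coh.IsQCoh (Twist.twistOver r Y j) :=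
    Ega2.QCohLocal.isQCoh_of_isInvertible (Ega3B.ProjFrame.isInvertible_twistOver r j)
  exact Ega1.TensorRestrict.isQCoh_tensorMod _ _
    (VarietyB.PullSec.isQCoh_pullback (CohB1.ProjSpaceOver.toBase r Y) _ hG) h1

/-- `R^q f_* (∐ f^* G_k ⊗ O(j_k)) = 0` for `q ≠ r`, `j_k ≤ -1`, `G_k` quasi-coherent. -/
theorem isZero_RpushAb {ι : Type u} (G : ι → Y.Modules) (hG : ∀ k, Coh.IsQCoh (G k))
    (j : ι → ℤ) (hj : ∀ k, j k ≤ -1) (q : ℕ) (hq : q ≠ r) :
    IsZero ((Coh.RpushAb (CohB1.ProjSpaceOver.toBase r Y) q).obj (Coh.toAb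
      (∐ fun k => CohB1.tensorMod ((Scheme.Modules.pullback (CohB1.ProjSpaceOver.toBase r Y)).obj (G k))
        (Twist.twistOver r Y (j k))))) := by
  set F : ι → (CohB1.ProjSpaceOver r Y).Modules := fun k =>
    CohB1.tensorMod ((Scheme.Modules.pullback (CohB1.ProjSpaceOver.toBase r Y)).obj (G k))
        (Twist.twistOver r Y (j k)) with hF
  have hM : Coh.IsQCoh (∐ F) := CohqB.QC7.isQCoh_coproduct _ fun k => isQCoh_term r (G k) (hG k) (j k)
  refine CohqB.RelVan.isZero_RpushAb_of_cover (CohB1.ProjSpaceOver.toBase r Y) _ hM q fun x => ?_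
  obtain ⟨_, ⟨V, hV, rfl⟩, hxV, -⟩ :=
    Y.isBasis_affineOpens.exists_subset_of_mem_open (Set.mem_univ x) isOpen_univ
  let C : Krr.H471.ChartVan.Chart r (CohB1.ProjSpaceOver.toBase r Y) :=
    { A := Γ(Y, V), h := hV.fromSpec, c := chart r hV.fromSpec
      isPullback := isPullback_chart r hV.fromSpec }
  refine ⟨C.h.opensRange, ?_, isAffineOpen_opensRange C.h, ?_⟩
  · have h1 : hV.fromSpec.opensRange = V := hV.opensRange_fromSpec
    rw [show C.h.opensRange = V from h1]
    exact hxV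
  · have hcs : CompactSpace (CohB1.ProjSpace r Γ(Y, V)) :=
      QuasiCompact.compactSpace_of_compactSpace (CohB1.ProjSpace.toSpec r Γ(Y, V))
    have hqs : QuasiSeparatedSpace (CohB1.ProjSpace r Γ(Y, V)) := by
      have : IsProper (CohB1.ProjSpace.toSpec r Γ(Y, V)) := Ega3B.ProjProper.isProper_toSpec r _
      exact quasiSeparatedSpace_of_quasiSeparated (CohB1.ProjSpace.toSpec r Γ(Y, V))
    have h2 : Subsingleton (Coh.HH (CohB1.ProjSpace r Γ(Y, V)) ((∐ F).restrict C.c) q) := by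
      have e : (∐ F).restrict C.c ≅ ∐ fun k => (F k).restrict C.c :=
        PreservesCoproduct.iso (Scheme.Modules.restrictFunctor C.c) F
      refine Fga.HShift.subsingleton_of_iso e.symm q
        (CohqA.DirectSum.subsingleton_coproduct _ q fun k => ?_)
      exact Fga.HShift.subsingleton_of_iso (resIso r hV.fromSpec (G k) (j k)).symm q
        (hh_pullback_neg r Γ(Y, V) (VarietyB.PullSec.isQCoh_pullback hV.fromSpec _ (hG k)) (j k) (hj k) q hq)
    have e1 := CohqA.HOpen.HHEquiv C.c (∐ F) ((CohB1.ProjSpaceOver.toBase r Y) ⁻¹ᵁ C.h.opensRange)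
      C.image_top q
    have e2 := CohqA.HOpen.HHonEquiv (∐ F) ((CohB1.ProjSpaceOver.toBase r Y) ⁻¹ᵁ C.h.opensRange) q
    have h3 := e1.toEquiv.subsingleton
    exact e2.symm.toEquiv.subsingleton

end Over

end Groth.Agent.Coherent.K791.PnTens
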