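import Groth.Agent.Ega3B.FlatCohBC2
import Groth.Agent.Ega3B.SecLift

/-!
# Cohomology of `F ⊗_A M` for `F` flat with flat cohomology

`X` quasi-compact and separated over `Spec A`, `F` quasi-coherent and flat over `A` with all `H^p(X, F)` flat over `A`.
Then `H^n(X, F ⊗_A M) = M ⊗_A H^n(X, F)` for every `A`-module `M` (`nonempty_equiv`).
-/

set_option autoImplicit false
universe u
open CategoryTheory CategoryTheory.Limits AlgebraicGeometry Opposite TopologicalSpace TensorProduct

namespace Groth.Agent.Coherent.K791.TensCech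

open Groth.Agent Groth.Agent.Ega3B Groth.Agent.Ega3B.CubeData Groth.Agent.Ega3B.CombRes
  Groth.Agent.Ega3B.CechBC Groth.Agent.Ega3B.AcyclicBC Groth.Agent.Ega3B.FlatCohBC
  Groth.Agent.Ega3B.SecLift

variable {ι : Type} [LinearOrder ι] [Fintype ι]

variable (A : Type u) [CommRing A] {X : Scheme.{u}} [X.Over (Spec (CommRingCat.of A))]

/-- Components of cochains. -/
noncomputable def comp (F : X.Modules) (U : ι → X.Opens) (p : ℕ)
    (b : (cech (X := X.toPresheafedSpace.carrier) U).B p) :
    CA A F U p →ₗ[A] SecM A F ((cech (X := X.toPresheafedSpace.carrier) U).W p b) where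
  toFun x := toM A F _ (x b)
  map_add' _ _ := rfl
  map_smul' _ _ := rfl

/-- Cochains as a product. -/
noncomputable def compE (F : X.Modules) (U : ι → X.Opens) (p : ℕ) :
    CA A F U p ≃ₗ[A] (∀ b : (cech (X := X.toPresheafedSpace.carrier) U).B p,
      SecM A F ((cech (X := X.toPresheafedSpace.carrier) U).W p b)) where
  toFun x b := comp A F U p b x
  invFun y := fun b => (toM A F _).symm (y b)
  left_inv _ := rfl
  right_inv _ := rfl
  map_add' _ _ := rfl
  map_smul' _ _ := rfl

/-- The comparison on cochains. -/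
noncomputable def eM (F : X.Modules) (M : ModuleCat.{u} A) (U : ι → X.Opens) (p : ℕ) :
    M ⊗[A] CA A F U p →+ C ((CohIII.tensorAFunctor A F).obj M) U p :=
  AddMonoidHom.mk' (fun x b => thetaM F M _ ((comp A F U p b).lTensor M x)) fun x y => by
    funext b
    change thetaM F M _ ((comp A F U p b).lTensor M (x + y)) =
      thetaM F M _ ((comp A F U p b).lTensor M x) + thetaM F M _ ((comp A F U p b).lTensor M y)
    rw [map_add, map_add]

theorem eM_apply (F : X.Modules) (M : ModuleCat.{u} A) (U : ι → X.Opens) (p : ℕ)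
    (x : M ⊗[A] CA A F U p) (b : (cech (X := X.toPresheafedSpace.carrier) U).B p) :
    eM A F M U p x b = thetaM F M _ ((comp A F U p b).lTensor M x) := rfl

theorem eM_bijective (F : X.Modules) (hF : Coh.IsQCoh F) (M : ModuleCat.{u} A) (U : ι → X.Opens)
    (hU : ∀ s : Finset ι, s.Nonempty → IsAffineOpen (s.inf U)) (p : ℕ) :
    Function.Bijective (eM A F M U p) := by
  classical
  let E1 : M ⊗[A] CA A F U p ≃ₗ[A] (∀ b : (cech (X := X.toPresheafedSpace.carrier) U).B p,
      M ⊗[A] SecM A F ((cech (X := X.toPresheafedSpace.carrier) U).W p b)) :=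
    (LinearEquiv.lTensor M (compE A F U p)).trans
      (TensorProduct.piRight A A M (fun b : (cech (X := X.toPresheafedSpace.carrier) U).B p =>
        SecM A F ((cech (X := X.toPresheafedSpace.carrier) U).W p b)))
  have h1 : ∀ x b, E1 x b = (comp A F U p b).lTensor M x := by
    intro x b
    induction x using TensorProduct.induction_on with
    | zero => rw [map_zero, map_zero]; rfl
    | add x y hx hy => rw [map_add, map_add, Pi.add_apply, hx, hy]
    | tmul m c => rfl
  have h2 : ∀ b : (cech (X := X.toPresheafedSpace.carrier) U).B p, Function.Bijective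
      (thetaM F M ((cech (X := X.toPresheafedSpace.carrier) U).W p b)) := fun b =>
    thetaM_bijective F hF M (hU b.1 b.2.1)
  have h3 : Function.Bijective (fun (y : ∀ b : (cech (X := X.toPresheafedSpace.carrier) U).B p,
      M ⊗[A] SecM A F ((cech (X := X.toPresheafedSpace.carrier) U).W p b)) b =>
        thetaM F M ((cech (X := X.toPresheafedSpace.carrier) U).W p b) (y b)) :=
    Function.Bijective.piMap h2
  have h4 : (eM A F M U p : M ⊗[A] CA A F U p → C ((CohIII.tensorAFunctor A F).obj M) U p) =
      (fun (y : ∀ b : (cech (X := X.toPresheafedSpace.carrier) U).B p,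
      M ⊗[A] SecM A F ((cech (X := X.toPresheafedSpace.carrier) U).W p b)) b =>
        thetaM F M ((cech (X := X.toPresheafedSpace.carrier) U).W p b) (y b)) ∘ E1 := by
    funext x b
    rw [eM_apply, Function.comp_apply, h1]
  rw [h4]
  exact h3.comp E1.bijective

theorem eM_d (F : X.Modules) (M : ModuleCat.{u} A) (U : ι → X.Opens) (p : ℕ)
    (x : M ⊗[A] CA A F U p) :
    eM A F M U (p + 1) ((dA A F U p).lTensor M x) =
      (cech (X := X.toPresheafedSpace.carrier) U).δ p
        (Coh.toAb ((CohIII.tensorAFunctor A F).obj M)).obj (eM A F M U p x) := by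
  classical
  induction x using TensorProduct.induction_on with
  | zero => rw [map_zero, map_zero, map_zero, map_zero]
  | add x y hx hy => rw [map_add, map_add, map_add, map_add, hx, hy]
  | tmul m c =>
    funext b
    rw [LinearMap.lTensor_tmul, eM_apply, LinearMap.lTensor_tmul, Data.δ_apply]
    have h0 : comp A F U (p + 1) b (dA A F U p c) =
        ∑ b' : (cech (X := X.toPresheafedSpace.carrier) U).B p,
            (if h : (cech (X := X.toPresheafedSpace.carrier) U).W (p + 1) b ≤
              (cech (X := X.toPresheafedSpace.carrier) U).W p b' then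
              (cech (X := X.toPresheafedSpace.carrier) U).m p b b' •
                resM A F h (comp A F U p b' c) else 0) := by
      refine (Data.δ_apply _ _ _ _).trans ?_
      refine Finset.sum_congr rfl fun b' _ => ?_
      split_ifs <;> rfl
    rw [h0, TensorProduct.tmul_sum, map_sum]
    refine Finset.sum_congr rfl fun b' _ => ?_
    split_ifs with h
    · rw [TensorProduct.tmul_smul, map_zsmul]
      congr 1
      exact (thetaM_res F M h (m ⊗ₜ[A] comp A F U p b' c)).symm
    · rw [TensorProduct.tmul_zero, map_zero]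
      rfl

theorem of_cover (F : X.Modules) (hF : Coh.IsQCoh F)
    (hfl : FlatMod.IsFlatOver (X ↘ Spec (CommRingCat.of A)) F)
    (hH : ∀ p, Module.Flat A (Coh.HH X F p)) (M : ModuleCat.{u} A)
    (hM : Coh.IsQCoh ((CohIII.tensorAFunctor A F).obj M)) (U : ι → X.Opens) (hcov : ⨆ i, U i = ⊤)
    (hU : ∀ s : Finset ι, s.Nonempty → IsAffineOpen (s.inf U)) (n : ℕ) :
    Nonempty (Coh.HH X ((CohIII.tensorAFunctor A F).obj M) n ≃+ M ⊗[A] Coh.HH X F n) := by
  have hlg := cech_locGood (X := X.toPresheafedSpace.carrier) U hcov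
  have hth := fun p => exists_theta_lin A (cech (X := X.toPresheafedSpace.carrier) U) hlg F hF
    (fun n b => hU b.1 b.2.1) p
  obtain ⟨θ', hθ'1, hθ'2⟩ := exists_theta_add (cech (X := X.toPresheafedSpace.carrier) U)
    hlg ((CohIII.tensorAFunctor A F).obj M) hM (fun n b => hU b.1 b.2.1) n
  obtain ⟨θ, hθ1, hθ2⟩ := hth n
  have hHq : ∀ p, Module.Flat A (LinearMap.ker (dA A F U p) ⧸ FlatCxB.bz (dA A F U) p) := by
    intro p
    obtain ⟨θp, hp1, hp2⟩ := hth p
    exact flat_quot θp hp1 hp2 (hH p)
  exact FlatCxB.exists_equiv (C := CA A F U) (d := dA A F U)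
    (CombMod.d_comp_d _ _ _) (flat_CA A F hF hfl U hU) hHq (Fintype.card ι)
    (fun p hp => subsingleton_C F U p hp) M
    (C' := fun p => C ((CohIII.tensorAFunctor A F).obj M) U p)
    (fun p => (cech (X := X.toPresheafedSpace.carrier) U).δ p
      (Coh.toAb ((CohIII.tensorAFunctor A F).obj M)).obj) (fun p => eM A F M U p)
    (fun p => eM_bijective A F hF M U hU p) (fun p x => eM_d A F M U p x) n θ hθ1 hθ2 θ' hθ'1 hθ'2

/-- `H^n(X, F ⊗_A M) = M ⊗_A H^n(X, F)` for `F` flat with flat cohomology. -/
theorem nonempty_equiv [QuasiCompact (X ↘ Spec (CommRingCat.of A))]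
    [IsSeparated (X ↘ Spec (CommRingCat.of A))] (F : X.Modules) (hF : Coh.IsQCoh F)
    (hfl : FlatMod.IsFlatOver (X ↘ Spec (CommRingCat.of A)) F)
    (hH : ∀ p, Module.Flat A (Coh.HH X F p)) (M : ModuleCat.{u} A)
    (hM : Coh.IsQCoh ((CohIII.tensorAFunctor A F).obj M)) (n : ℕ) :
    Nonempty (Coh.HH X ((CohIII.tensorAFunctor A F).obj M) n ≃+ M ⊗[A] Coh.HH X F n) := by
  have h1 : CompactSpace X :=
    QuasiCompact.compactSpace_of_compactSpace (X ↘ Spec (CommRingCat.of A))
  have h2 : X.IsSeparated := by
    have : IsSeparated (terminal.from X) := by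
      have : terminal.from X = (X ↘ Spec (CommRingCat.of A)) ≫ terminal.from _ :=
        terminal.hom_ext _ _
      rw [this]
      infer_instance
    exact ⟨this⟩
  obtain ⟨m, U, hcov, hU⟩ := exists_cover X
  exact of_cover A F hF hfl hH M hM U hcov hU n

end Groth.Agent.Coherent.K791.TensCech
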