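import Groth.Agent.Ega3B.ProjFrame
import Groth.Agent.Ega2.Extend
import Groth.Agent.Ega2.Nv
import Groth.Agent.Ega2.TensMon
import Groth.Agent.Ega2.TensGen
import Groth.Agent.Sga67.TwistOver
import Groth.Agent.FormalB.ModPowAff2
import Groth.Agent.Fdesc.LocGenGlue
import Groth.Agent.Ega1.QcqsPush
import Groth.Agent.Ega3B.ProjProper

/-!
# Quasi-coherent modules on `P^n_Y` are quotients of sums of `f^* G ⊗ O(-m)`
-/

set_option autoImplicit false
universe u
open CategoryTheory CategoryTheory.Limits AlgebraicGeometry Opposite TopologicalSpace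

namespace Groth.Agent.Coherent.K791.TwEpi

open Groth.Agent Groth.Agent.Fdesc.LocGen Groth.Agent.Ega2 Groth.Agent.Ega3B.Frame

variable {X Y : Scheme.{u}}

theorem exists_counit_eq (f : X ⟶ Y) (N : X.Modules) (V : Y.Opens) (t : Γ(N, f ⁻¹ᵁ V)) :
    ∃ σ : Γ((Scheme.Modules.pullback f).obj ((Scheme.Modules.pushforward f).obj N), f ⁻¹ᵁ V),
      ((Scheme.Modules.pullbackPushforwardAdjunction f).counit.app N).app (f ⁻¹ᵁ V) σ = t := by
  refine ⟨((Scheme.Modules.pullbackPushforwardAdjunction f).unit.app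
    ((Scheme.Modules.pushforward f).obj N)).app V t, ?_⟩
  have h := (Scheme.Modules.pullbackPushforwardAdjunction f).right_triangle_components N
  exact congrArg (fun φ : (Scheme.Modules.pushforward f).obj N ⟶
    (Scheme.Modules.pushforward f).obj N => φ.app V t) h

/-- The evaluation `f^* f_* (F ⊗ L) ⊗ N ⟶ F` for `L ⊗ N ≅ O`. -/
noncomputable def ev (f : X ⟶ Y) (F L N : X.Modules) (ε : CohB1.tensorMod L N ≅ Coh.structureModule X) :
    CohB1.tensorMod ((Scheme.Modules.pullback f).obj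
      ((Scheme.Modules.pushforward f).obj (CohB1.tensorMod F L))) N ⟶ F :=
  Tens.mapT ((Scheme.Modules.pullbackPushforwardAdjunction f).counit.app (CohB1.tensorMod F L)) (𝟙 N) ≫
    Tens.assocHom F L N ≫ Tens.mapT (𝟙 F) ε.hom ≫ (Tens.runit F).hom

theorem exists_ev_eq (f : X ⟶ Y) (F L N : X.Modules) (ε : CohB1.tensorMod L N ≅ Coh.structureModule X)
    (V : Y.Opens) {U : X.Opens} (hU : U ≤ f ⁻¹ᵁ V) (t : Γ(F, U)) (x : Γ(L, U)) (hx : IsGen x)
    (t' : Γ(CohB1.tensorMod F L, f ⁻¹ᵁ V)) (ht' : res _ hU t' = tmul t x) :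
    ∃ z, (ev f F L N ε).app U z = t := by
  obtain ⟨σ, hσ⟩ := exists_counit_eq f (CohB1.tensorMod F L) V t'
  obtain ⟨y, hy⟩ : ∃ y : Γ(N, U), ε.hom.app U (tmul x y) = (1 : Γ(X, U)) := by
    have h1 := (tmul_left_bijective N hx (le_refl U)).surjective (ε.inv.app U (1 : Γ(X, U)))
    obtain ⟨y, hy⟩ := h1
    refine ⟨y, ?_⟩
    have h2 : tmul x y = ε.inv.app U (1 : Γ(X, U)) := by
      rw [← hy]
      simp only [res_refl]
    rw [h2]
    have h3 := congrArg (fun φ : Coh.structureModule X ⟶ Coh.structureModule X =>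
      φ.app U (1 : Γ(X, U))) ε.inv_hom_id
    exact h3
  have h1 : ((Scheme.Modules.pullbackPushforwardAdjunction f).counit.app (CohB1.tensorMod F L)).app U
      (res _ hU σ) = Tens.tmul t x := by
    refine Eq.trans ?_ ht'
    rw [← hσ]
    exact (Tens.app_res ((Scheme.Modules.pullbackPushforwardAdjunction f).counit.app
      (CohB1.tensorMod F L)) (homOfLE hU) σ).symm
  refine ⟨Tens.tmul (res _ hU σ) y, ?_⟩
  change (Tens.runit F).hom.app U ((Tens.mapT (𝟙 F) ε.hom).app U ((Tens.assocHom F L N).app U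
    ((Tens.mapT ((Scheme.Modules.pullbackPushforwardAdjunction f).counit.app
      (CohB1.tensorMod F L)) (𝟙 N)).app U (Tens.tmul (res _ hU σ) y)))) = t
  have h4 : (𝟙 N : N ⟶ N).app U y = y := rfl
  have h5 : (𝟙 F : F ⟶ F).app U t = t := rfl
  have hy' : ε.hom.app U (Tens.tmul x y) = (1 : Γ(X, U)) := hy
  have h7 : (Tens.mapT ((Scheme.Modules.pullbackPushforwardAdjunction f).counit.app
      (CohB1.tensorMod F L)) (𝟙 N)).app U (Tens.tmul (res _ hU σ) y) = Tens.tmul (Tens.tmul t x) y := by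
    refine (Tens.mapT_tmul _ _ _ _).trans ?_
    rw [h1, h4]
  rw [h7, Tens.assocHom_tmul, Tens.mapT_tmul, hy', h5]
  have h6 := Tens.runit_hom_tmul (1 : Γ(X, U)) t
  rw [one_smul] at h6
  exact h6

theorem nv_frame {L : X.Modules} {ι : Type*} (fr : SecFrame L ι) (j : ι) :
    CohB1.genLocus L (homOf (fr.s j)) = fr.W j := by
  apply le_antisymm
  · intro z hz
    obtain ⟨k, hk⟩ := Opens.mem_iSup.mp (show z ∈ ⨆ j, fr.W j by rw [fr.cov]; trivial)
    have h1 : CohB1.genLocus _ (homOf (fr.s j)) ⊓ fr.W k = X.basicOpen (fr.g j k) := by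
      refine genLocus_inf_eq (homOf (fr.s j)) (e := res L le_top (fr.s k)) (fr.gen k) ?_
      rw [sec_homOf, fr.eq_smul j k]
    rw [fr.basic] at h1
    have h2 : z ∈ CohB1.genLocus _ (homOf (fr.s j)) ⊓ fr.W k := ⟨hz, hk⟩
    rw [h1] at h2
    exact h2.1
  · rw [le_genLocus_iff, sec_homOf]
    exact fr.gen j

theorem nonempty_eps (n : ℕ) (Y : Scheme.{u}) (m : ℕ) :
    Nonempty (CohB1.tensorMod (CohB1.tensorPow (Twist.twistOver n Y 1) m)
      (Twist.twistOver n Y (-((m : ℕ) : ℤ))) ≅ Coh.structureModule (CohB1.ProjSpaceOver n Y)) := by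
  obtain ⟨e1⟩ := Ega3B.ProjFrame.nonempty_twistOver_iso n (Y := Y) m
  obtain ⟨e2⟩ := Sga67.TwistOver.nonempty_twistOver_mul n Y (m : ℤ) (-(m : ℤ))
  obtain ⟨e3⟩ := Sga67.TwistOver.nonempty_twistOver_zero n Y
  rw [add_neg_cancel] at e2
  exact ⟨Tens.mapTIso e1.symm (Iso.refl _) ≪≫ e2 ≪≫ e3⟩

/-- Quasi-coherent modules on `P^n_Y` are quotients of sums of `f^* G ⊗ O(-m)`. -/
theorem exists_epi (Y : Scheme.{u}) (n : ℕ) (F : (CohB1.ProjSpaceOver n Y).Modules) (hF : Coh.IsQCoh F) :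
    ∃ (ι : Type u) (G : ι → Y.Modules) (m : ι → ℕ)
      (p : (∐ fun j => CohB1.tensorMod ((Scheme.Modules.pullback (CohB1.ProjSpaceOver.toBase n Y)).obj (G j))
        (Twist.twistOver n Y (-((m j : ℕ) : ℤ)))) ⟶ F),
      (∀ j, Coh.IsQCoh (G j)) ∧ (∀ j, 0 < m j) ∧ Epi p := by
  let f := CohB1.ProjSpaceOver.toBase n Y
  let L := Twist.twistOver n Y 1
  have hf : IsProper f := Ega3B.ProjProper.isProper_toBase n Y
  have hL : PicF.IsInvertible L := Ega3B.ProjFrame.isInvertible_twistOver n 1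
  let ε := fun m : ℕ => (nonempty_eps n Y m).some
  refine ⟨ULift.{u} ℕ, fun j => (Scheme.Modules.pushforward f).obj
    (CohB1.tensorMod F (CohB1.tensorPow L (j.down + 1))), fun j => j.down + 1,
    Sigma.desc (fun j => ev f F (CohB1.tensorPow L (j.down + 1))
      (Twist.twistOver n Y (-(((j.down + 1 : ℕ)) : ℤ))) (ε (j.down + 1))), ?_, ?_, ?_⟩
  · intro j
    exact Ega1.QcqsPush.isQCoh_pushforward f _ (Ega2.TensGen.isQCoh_tensor hF (isInvertible_tensorPow hL _))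
  · intro j
    exact Nat.succ_pos _
  · refine FormalB.ModPowAff2.epi_of_affine_cover hF _ fun x => ?_
    obtain ⟨V, hV, hxV⟩ : ∃ V : Y.Opens, IsAffineOpen V ∧ f x ∈ V := by
      obtain ⟨_, ⟨V, hV, rfl⟩, hxV, -⟩ :=
        Y.isBasis_affineOpens.exists_subset_of_mem_open (Set.mem_univ (f x)) isOpen_univ
      exact ⟨V, hV, hxV⟩
    let fr := Ega3B.ProjFrame.frameOver n Y
    obtain ⟨i, hi⟩ := Opens.mem_iSup.mp (show x ∈ ⨆ j, fr.W j by rw [fr.cov]; trivial)
    have hg : CohB1.genLocus L (homOf (fr.s i)) = fr.W i := nv_frame fr i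
    have haff : IsAffineOpen (f ⁻¹ᵁ V ⊓ CohB1.genLocus L (homOf (fr.s i))) := by
      rw [hg, inf_comm]
      exact Ega3B.ProjFrame.isAffineOpen_frameOver n Y i hV
    refine ⟨f ⁻¹ᵁ V ⊓ CohB1.genLocus L (homOf (fr.s i)), ⟨hxV, by rw [hg]; exact hi⟩, haff, fun t => ?_⟩
    have hW : IsCompact ((f ⁻¹ᵁ V : (CohB1.ProjSpaceOver n Y).Opens) : Set (CohB1.ProjSpaceOver n Y)) :=
      f.isCompact_preimage hV.isCompact
    have hW' : IsQuasiSeparated ((f ⁻¹ᵁ V : (CohB1.ProjSpaceOver n Y).Opens) : Set (CohB1.ProjSpaceOver n Y)) := by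
      have hV' : IsAffine (V : Scheme.{u}) := hV
      rw [isQuasiSeparated_iff_quasiSeparatedSpace _ (f ⁻¹ᵁ V).isOpen]
      exact quasiSeparatedSpace_of_quasiSeparated (f ∣_ V)
    obtain ⟨N, hN⟩ := Ega2.Extend.exists_extend hF hL (homOf (fr.s i)) hW hW' t
    obtain ⟨t', ht'⟩ := hN (N + 1) (Nat.le_succ N)
    obtain ⟨z, hz⟩ := exists_ev_eq f F (CohB1.tensorPow L (N + 1))
      (Twist.twistOver n Y (-(((N + 1 : ℕ)) : ℤ))) (ε (N + 1)) V inf_le_left t _
      (IsGen.pow ((le_genLocus_iff _ _).mp inf_le_right) (N + 1)) t' ht'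
    refine ⟨(Sigma.ι (fun j : ULift.{u} ℕ => CohB1.tensorMod ((Scheme.Modules.pullback f).obj
      ((Scheme.Modules.pushforward f).obj (CohB1.tensorMod F (CohB1.tensorPow L (j.down + 1)))))
      (Twist.twistOver n Y (-(((j.down + 1 : ℕ)) : ℤ)))) ⟨N⟩).app _ z, ?_⟩
    refine Eq.trans ?_ hz
    have h1 := Sigma.ι_desc (fun j : ULift.{u} ℕ => ev f F (CohB1.tensorPow L (j.down + 1))
      (Twist.twistOver n Y (-(((j.down + 1 : ℕ)) : ℤ))) (ε (j.down + 1))) ⟨N⟩
    exact congrArg (fun φ : CohB1.tensorMod ((Scheme.Modules.pullback f).obj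
      ((Scheme.Modules.pushforward f).obj (CohB1.tensorMod F (CohB1.tensorPow L (N + 1)))))
      (Twist.twistOver n Y (-(((N + 1 : ℕ)) : ℤ))) ⟶ F => φ.app _ z) h1

end Groth.Agent.Coherent.K791.TwEpi
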