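import Groth.Agent.FlatA.Stein
import Groth.Agent.FlatA.SteinNoeth
import Mathlib.AlgebraicGeometry.Morphisms.UniversallyInjective
import Mathlib.AlgebraicGeometry.Morphisms.QuasiFinite
import Mathlib.Topology.Separation.Connected

/-!
# Connected geometric fibres and universal injectivity of the Stein part

For `f : X ⟶ S` proper with `S` affine Noetherian, `Spec Γ(X, O) ⟶ Spec Γ(S, O)` is universally
injective iff all `X ×_S Spec K`, `K` a field, are preconnected.
-/

set_option autoImplicit false
universe u
open CategoryTheory CategoryTheory.Limits AlgebraicGeometry TopologicalSpace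

namespace Groth.Agent.Coherent.K791.UnivInj

/-- The Stein part. -/
noncomputable def cc {X S : Scheme.{u}} (f : X ⟶ S) [IsAffine S] : Spec Γ(X, ⊤) ⟶ S :=
  Spec.map f.appTop ≫ S.isoSpec.inv

theorem toSpecΓ_cc {X S : Scheme.{u}} (f : X ⟶ S) [IsAffine S] : X.toSpecΓ ≫ cc f = f := by
  rw [cc, ← Category.assoc, ← Scheme.toSpecΓ_naturality, Category.assoc]
  have : S.toSpecΓ ≫ S.isoSpec.inv = 𝟙 S := S.isoSpec.hom_inv_id
  rw [this, Category.comp_id]

theorem isIso_appTop (X : Scheme.{u}) : IsIso X.toSpecΓ.appTop := by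
  rw [Scheme.toSpecΓ_appTop]
  infer_instance

instance {X S : Scheme.{u}} (f : X ⟶ S) [IsAffine S] : IsAffineHom (cc f) := by
  have : IsAffine (Spec Γ(X, ⊤)) := inferInstance
  infer_instance

theorem isProper_toSpecΓ {X S : Scheme.{u}} (f : X ⟶ S) [IsAffine S] [IsProper f] :
    IsProper X.toSpecΓ := by
  have h : IsProper (X.toSpecΓ ≫ cc f) := by rw [toSpecΓ_cc]; infer_instance
  exact IsProper.of_comp X.toSpecΓ (cc f)

theorem univInj_cc_iff {X S : Scheme.{u}} (f : X ⟶ S) [IsAffine S] :
    UniversallyInjective (cc f) ↔ UniversallyInjective (Spec.map f.appTop) := by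
  have := UniversallyInjective.respectsIso.{u}
  rw [cc]
  exact MorphismProperty.cancel_right_of_respectsIso (P := @UniversallyInjective) _ _

theorem preconnected {X S : Scheme.{u}} (f : X ⟶ S) [IsAffine S] [IsProper f]
    (h : UniversallyInjective (Spec.map f.appTop)) (K : Type u) [Field K]
    (s : Spec (CommRingCat.of K) ⟶ S) : PreconnectedSpace ↥(pullback f s) := by
  have hX : CompactSpace X := (quasiCompact_iff_compactSpace f).mp inferInstance
  have h1 : UniversallyInjective (cc f) := (univInj_cc_iff f).mpr h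
  have h2 : UniversallyInjective (pullback.snd (cc f) s) :=
    MorphismProperty.pullback_snd (P := @UniversallyInjective) _ _ h1
  have h3 : Subsingleton ↥(pullback (cc f) s) :=
    (pullback.snd (cc f) s).injective.subsingleton
  have h4 : IsProper X.toSpecΓ := isProper_toSpecΓ f
  have h5 : IsAffine (pullback (cc f) s) := inferInstance
  have h8 := isIso_appTop X
  have h6 := Groth.Agent.FlatA.Stein.preconnectedSpace_pullback (R := Γ(X, ⊤)) X.toSpecΓ
    (pullback.fst (cc f) s)
  have e := pullbackRightPullbackFstIso (cc f) s X.toSpecΓ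
  have e2 : pullback (X.toSpecΓ ≫ cc f) s ≅ pullback f s := pullback.congrHom (toSpecΓ_cc f) rfl
  have h7 := (Scheme.homeoOfIso (e ≪≫ e2)).surjective
  exact h7.denseRange.preconnectedSpace (Scheme.homeoOfIso (e ≪≫ e2)).continuous

/-- Two points of a scheme with values in a field `K` which are sections of a morphism to `Spec K`,
are equal if they have the same image. -/
theorem section_eq {Z : Scheme.{u}} {K : Type u} [Field K] (p : Z ⟶ Spec (CommRingCat.of K))
    (b₁ b₂ : Spec (CommRingCat.of K) ⟶ Z) (h₁ : b₁ ≫ p = 𝟙 _) (h₂ : b₂ ≫ p = 𝟙 _)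
    (h : Subsingleton Z) : b₁ = b₂ := by
  obtain ⟨⟨x₁, φ₁⟩, rfl⟩ := (Z.SpecToEquivOfField K).symm.surjective b₁
  obtain ⟨⟨x₂, φ₂⟩, rfl⟩ := (Z.SpecToEquivOfField K).symm.surjective b₂
  obtain rfl : x₁ = x₂ := Subsingleton.elim _ _
  rw [Scheme.SpecToEquivOfField_symm_apply] at h₁ h₂
  obtain ⟨ψ, hψ⟩ := Spec.map_surjective (Z.fromSpecResidueField x₁ ≫ p)
  rw [Category.assoc, ← hψ, ← Spec.map_comp, ← Spec.map_id, Spec.map_inj] at h₁ h₂
  have key : φ₁ = φ₂ := by
    ext t
    have h3 : ∀ a, φ₁ (ψ a) = a := fun a => congr($(h₁) a)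
    have h4 : ∀ a, φ₂ (ψ a) = a := fun a => congr($(h₂) a)
    have h5 : ψ (φ₁ t) = t := by
      apply (RingHom.injective φ₁.hom)
      exact h3 (φ₁ t)
    have h6 : φ₂ (ψ (φ₁ t)) = φ₂ t := by rw [h5]
    rw [h4] at h6
    exact h6
  rw [key]

theorem univInj_of_preconnected {X S : Scheme.{u}} (f : X ⟶ S) [IsAffine S] [IsProper f]
    [IsNoetherianRing Γ(S, ⊤)]
    (h : ∀ (K : Type u) [Field K] (s : Spec (CommRingCat.of K) ⟶ S), PreconnectedSpace ↥(pullback f s)) :
    UniversallyInjective (Spec.map f.appTop) := by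
  have hX : CompactSpace X := (quasiCompact_iff_compactSpace f).mp inferInstance
  have h4 : IsProper X.toSpecΓ := isProper_toSpecΓ f
  have h8 := isIso_appTop X
  have h5 : Surjective X.toSpecΓ := Groth.Agent.FlatA.Stein.surjective_of_isIso_appTop X.toSpecΓ
  have hfin : IsFinite (Spec.map f.appTop) := by
    rw [IsFinite.SpecMap_iff]
    exact Groth.Agent.FlatA.SteinNoeth.finite_appTop f
  have hfin' : IsFinite (cc f) := by
    rw [cc]
    infer_instance
  rw [← univInj_cc_iff]
  refine ((tfae_universallyInjective (cc f)).out 0 1).mpr ?_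
  intro K _ b₁ b₂ hb
  have hb' : b₁ ≫ cc f = b₂ ≫ cc f := hb
  let s := b₁ ≫ cc f
  have hpre := h K s
  let π : pullback f s ⟶ pullback (cc f) s :=
    pullback.lift (pullback.fst f s ≫ X.toSpecΓ) (pullback.snd f s) (by
      rw [Category.assoc, toSpecΓ_cc]; exact pullback.condition)
  have hπ : Surjective π := by
    have sq : IsPullback (pullback.fst f s) π X.toSpecΓ (pullback.fst (cc f) s) := by
      refine IsPullback.of_bot (h₁₁ := pullback.fst f s) (v₂₂ := cc f) (v₂₁ := pullback.snd (cc f) s)
        (h₃₁ := s) ?_ ?_ (IsPullback.of_hasPullback (cc f) s)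
      · rw [toSpecΓ_cc]
        have : π ≫ pullback.snd (cc f) s = pullback.snd f s := pullback.lift_snd _ _ _
        rw [this]
        exact IsPullback.of_hasPullback f s
      · exact (pullback.lift_fst _ _ _).symm
    exact MorphismProperty.of_isPullback (P := @Surjective) sq h5
  have hpreZ : PreconnectedSpace ↥(pullback (cc f) s) :=
    π.surjective.denseRange.preconnectedSpace π.continuous
  have hdisc : DiscreteTopology ↥(pullback (cc f) s) := by
    have h9 := (pullback.snd (cc f) s).isDiscrete_preimage_singleton (IsLocalRing.closedPoint K)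
    rw [← isDiscrete_univ_iff]
    convert h9
    symm
    rw [Set.eq_univ_iff_forall]
    intro x
    exact Subsingleton.elim (α := PrimeSpectrum K) _ _
  have hsub : Subsingleton ↥(pullback (cc f) s) := by
    exact PreconnectedSpace.trivial_of_discrete
  have h10 := section_eq (pullback.snd (cc f) s) (pullback.lift b₁ (𝟙 _) (by simp [s]))
    (pullback.lift b₂ (𝟙 _) (by rw [Category.id_comp]; exact hb'.symm)) (pullback.lift_snd _ _ _)
    (pullback.lift_snd _ _ _) hsub
  have h11 := congr($(h10) ≫ pullback.fst (cc f) s)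
  rwa [pullback.lift_fst, pullback.lift_fst] at h11

/-- The injectivity of the Stein part is stable under base change to an affine Noetherian scheme. -/
theorem univInj_baseChange {X S T : Scheme.{u}} (f : X ⟶ S) [IsAffine S] [IsProper f]
    (h : UniversallyInjective (Spec.map f.appTop)) (g : T ⟶ S) [IsAffine T]
    [IsNoetherianRing Γ(T, ⊤)] :
    UniversallyInjective (Spec.map (pullback.snd f g).appTop) := by
  refine univInj_of_preconnected _ fun K _ s => ?_
  have h1 := preconnected f h K (s ≫ g)
  have e := pullbackLeftPullbackSndIso f g s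
  have h7 := (Scheme.homeoOfIso e.symm).surjective
  exact h7.denseRange.preconnectedSpace (Scheme.homeoOfIso e.symm).continuous

end Groth.Agent.Coherent.K791.UnivInj
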